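import Groth.Agent.DualLocal7.Main
import Groth.Agent.S0368
import Groth.Agent.S0365
import Groth.Agent.KFlatLib.Ring.InvertibleTwist

/-!
# The dualizing module of a Cohen–Macaulay local ring
-/

set_option linter.style.haveILetI false
set_option backward.isDefEq.respectTransparency false
set_option backward.isDefEq.respectTransparency.types false
set_option maxHeartbeats 1000000

universe u

open CategoryTheory CategoryTheory.Limits

attribute [local instance] HasDerivedCategory.standard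

namespace Groth.Agent.DualLocal7

open Groth.Agent.KFlatLib Groth.Agent.PerfGen7

variable {B : Type u} [CommRing B] [IsLocalRing B] [IsNoetherianRing B] {ω : Dual.D B}

/-- Over a Cohen–Macaulay ring only one cohomology module survives, and it is Cohen–Macaulay. -/
theorem cm_dualizing (hω : Dual.IsDualizing B ω) (hn : Dual.IsNormalized B ω)
    (hCM : LocCoh.IsCohenMacaulayLocalRing B) (d : ℕ) (hd : ringKrullDim B = d) :
    (∀ i : ℤ, i ≠ -(d : ℤ) → Subsingleton (Dual.HD B ω i)) ∧
      Module.support B (Dual.HD B ω (-(d : ℤ))) = Set.univ ∧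
      LocCoh.IsCohenMacaulayModule B (Dual.HD B ω (-(d : ℤ))) := by
  have hdB : Module.supportDim B B = d := (Module.supportDim_self_eq_ringKrullDim (R := B)).trans hd
  have hvan : ∀ i : ℤ, i ≠ -(d : ℤ) → Subsingleton (Dual.HD B ω i) := fun i hi => by
    obtain ⟨e⟩ := exists_homRingLEquiv ω i
    have h := (Groth.Agent.S0368.result B ω hω hn B d hdB).1 hCM.supportDim_eq_depth (-i) (by omega)
    rw [neg_neg] at h
    exact e.symm.toEquiv.subsingleton_congr.2 h
  have hsupp : Module.support B (Dual.HD B ω (-(d : ℤ))) = Set.univ := Set.eq_univ_of_forall fun P => by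
    obtain ⟨-, i, hi⟩ := DualSchCM.ring_criterion hω P
    rw [Module.mem_support_iff]
    obtain rfl : i = -(d : ℤ) := by
      by_contra hne
      haveI := hvan i hne
      exact not_subsingleton (LocalizedModule P.asIdeal.primeCompl (Dual.HD B ω i))
        (LocalizedModule.subsingleton_iff.2 fun z => ⟨1, one_mem _, by rw [Subsingleton.elim z 0, smul_zero]⟩)
    exact hi
  refine ⟨hvan, hsupp, ?_⟩
  haveI hnt : Nontrivial (Dual.HD B ω (-(d : ℤ))) :=
    Module.nonempty_support_iff.1 (hsupp ▸ Set.univ_nonempty)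
  haveI := hω.finite_cohomology (-(d : ℤ))
  let ω₀ : Dual.D B := ω⟦(-(d : ℤ))⟧
  haveI : ω₀.IsGE 0 := by
    haveI : ω.IsGE (-(d : ℤ)) := (DerivedCategory.isGE_iff _ _).2 fun i hi => by
      haveI := hvan i (ne_of_lt hi)
      exact ModuleCat.isZero_of_subsingleton ((DerivedCategory.homologyFunctor _ i).obj ω)
    exact DerivedCategory.TStructure.t.isGE_shift ω (-(d : ℤ)) _ _ (by omega)
  haveI : ω₀.IsLE 0 := by
    haveI : ω.IsLE (-(d : ℤ)) := (DerivedCategory.isLE_iff _ _).2 fun i hi => by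
      haveI := hvan i (ne_of_gt hi)
      exact ModuleCat.isZero_of_subsingleton ((DerivedCategory.homologyFunctor _ i).obj ω)
    exact DerivedCategory.TStructure.t.isLE_shift ω (-(d : ℤ)) _ _ (by omega)
  obtain ⟨K, ⟨eK⟩⟩ := DerivedCategory.exists_iso_singleFunctor_obj_of_isGE_of_isLE ω₀ 0
  let l : (K : Type u) ≃ₗ[B] Dual.HD B ω (-(d : ℤ)) :=
    (((DerivedCategory.singleFunctorCompHomologyFunctorIso (ModuleCat.{u} B) 0).app K).symm ≪≫
      (DerivedCategory.homologyFunctor (ModuleCat.{u} B) 0).mapIso eK.symm ≪≫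
      ((DerivedCategory.homologyFunctor (ModuleCat.{u} B) 0).shiftIso (-(d : ℤ)) 0 (-(d : ℤ)) (by omega)).app ω).toLinearEquiv
  haveI : Module.Finite B K := Module.Finite.equiv l.symm
  haveI : Nontrivial K := l.toEquiv.nontrivial
  have hKd : Module.supportDim B K = d := by
    rw [← hdB, Module.supportDim_self_eq_ringKrullDim, Module.supportDim, l.support_eq, hsupp]
    exact Order.krullDim_eq_of_orderIso OrderIso.Set.univ
  have hK : LocCoh.IsCohenMacaulayModule B K := (Groth.Agent.S0368.result B ω hω hn K d hKd).2 fun i hi => by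
    have hω₀ : Dual.IsDualizing B ω₀ := isDualizing_shift hω _
    haveI : Subsingleton (ω₀ ⟶ ω₀⟦((d : ℤ) - i)⟧) := hω₀.ext_self_subsingleton _ (by omega)
    haveI : Subsingleton (ω₀ ⟶ (shiftFunctor (Dual.D B) (-(d : ℤ)) ⋙ shiftFunctor (Dual.D B) ((d : ℤ) - i)).obj ω) :=
      ‹Subsingleton (ω₀ ⟶ ω₀⟦((d : ℤ) - i)⟧)›
    exact (Iso.homCongr eK ((shiftFunctorAdd' (Dual.D B) (-(d : ℤ)) ((d : ℤ) - i) (-(i : ℤ)) (by omega)).symm.app ω)).symm.subsingleton
  unfold LocCoh.IsCohenMacaulayModule at hK ⊢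
  rw [← Module.supportDim_eq_of_equiv l, ← FlatLoc6.depth_congr' l]
  exact hK

/-- The depth of the ring is read off the cohomology of a normalized dualizing complex. -/
theorem exists_depth_eq (hω : Dual.IsDualizing B ω) (hn : Dual.IsNormalized B ω) :
    ∃ n : ℕ, LocCoh.depth B B = n ∧ (∀ δ : ℕ, δ < n → Subsingleton (Dual.HD B ω (-(δ : ℤ)))) ∧
      Nontrivial (Dual.HD B ω (-(n : ℤ))) ∧ ∀ j : ℤ, Nontrivial (Dual.HD B ω j) → j ≤ 0 := by
  classical
  have hle : ∀ j : ℤ, Nontrivial (Dual.HD B ω j) → j ≤ 0 := fun j hj => by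
    obtain ⟨e⟩ := exists_homRingLEquiv ω j
    haveI : Nontrivial (Dual.inD B B ⟶ ω⟦j⟧) := e.toEquiv.nontrivial
    obtain ⟨d, hd⟩ := LocalizeDual.exists_supportDim_eq (B := B) B
    exact ((Groth.Agent.S0366.result B ω hω hn B d hd j).1 inferInstance).2
  have hex : ∃ δ : ℕ, Nontrivial (Dual.HD B ω (-(δ : ℤ))) := by
    obtain ⟨-, i, hi⟩ := DualSchCM.ring_criterion hω (IsLocalRing.closedPoint B)
    have hi' : Nontrivial (Dual.HD B ω i) := Module.nonempty_support_iff.1 ⟨_, Module.mem_support_iff.2 hi⟩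
    exact ⟨(-i).toNat, by rwa [Int.toNat_of_nonneg (by have := hle i hi'; omega), neg_neg]⟩
  refine ⟨Nat.find hex, ?_, fun δ hδ => ?_, Nat.find_spec hex, hle⟩
  · exact (Groth.Agent.S0365.result B ω hω hn _).2
      ⟨fun δ hδ => not_nontrivial_iff_subsingleton.1 (Nat.find_min hex hδ), Nat.find_spec hex⟩
  · exact not_nontrivial_iff_subsingleton.1 (Nat.find_min hex hδ)

end Groth.Agent.DualLocal7
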