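import Groth.Agent.DualField7.Closed
import Groth.Agent.PerfGen7.DualFinLen
import Mathlib.RingTheory.Jacobson.Ring

/-!
# `Ext` of a closed point into the dualizing complex of a scheme proper over a local ring
-/

set_option linter.style.haveILetI false
set_option backward.isDefEq.respectTransparency false
set_option backward.isDefEq.respectTransparency.types false
set_option maxHeartbeats 4000000

universe u

open CategoryTheory CategoryTheory.Limits AlgebraicGeometry

attribute [local instance] HasDerivedCategory.standard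

namespace Groth.Agent.DualLocal7

open Groth.Agent.KFlatLib Groth.Agent.ShriekDual7 Groth.Agent.DualField7

/-- A residue field which is finite over the base has finite length. -/
lemma isFiniteLength_of_residue (R κ : Type u) [CommRing R] [IsLocalRing R] [Field κ] [Algebra R κ]
    [Algebra.FiniteType R κ] (h : IsLocalRing.maximalIdeal R ≤ RingHom.ker (algebraMap R κ)) :
    IsFiniteLength R κ ∧ Module.Finite R κ := by
  let k := R ⧸ IsLocalRing.maximalIdeal R
  letI : Field k := Ideal.Quotient.field _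
  letI : Algebra k κ := (Ideal.Quotient.lift (IsLocalRing.maximalIdeal R) (algebraMap R κ) h).toAlgebra
  haveI : IsScalarTower R k κ := IsScalarTower.of_algebraMap_eq fun r => rfl
  haveI : Algebra.FiniteType k κ := Algebra.FiniteType.of_restrictScalars_finiteType R k κ
  haveI : Module.Finite k κ := finite_of_finite_type_of_isJacobsonRing k κ
  haveI : Module.Finite R k := Module.Finite.of_surjective (Algebra.linearMap R k) Ideal.Quotient.mk_surjective
  haveI : IsSimpleModule R k :=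
    isSimpleModule_iff_quot_maximal.2 ⟨IsLocalRing.maximalIdeal R, inferInstance, ⟨LinearEquiv.refl R k⟩⟩
  refine ⟨?_, Module.Finite.trans k κ⟩
  let b := (Module.finBasis k κ).equivFun.restrictScalars R
  exact b.symm.isFiniteLength (isFiniteLength_iff_isNoetherian_isArtinian.2 ⟨inferInstance, inferInstance⟩)

variable [∀ (R : CommRingCat.{u}), PreservesFiniteLimits (tilde.functor R)]

variable [∀ (U V : Scheme.{u}) (j : U ⟶ V) [IsOpenImmersion j], PreservesFiniteLimits (Scheme.Modules.restrictFunctor j)]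

/-- At a closed point of a scheme proper over a Noetherian local ring the dualizing complex is normalized. -/
theorem subsingleton_ext_closed {k : Type u} [CommRing k] [IsLocalRing k] [IsNoetherianRing k]
    {ωk : Dual.D k} (hnk : Dual.IsNormalized k ωk) (hbk : ∃ b : ℤ, ωk.IsGE b) {X : Scheme.{u}}
    (f : X ⟶ Spec (CommRingCat.of k)) [IsProper f] [DCoh.HasRpush f] (hf : DCoh.RpushPreservesQCoh f)
    {a : DCoh.DQCoh (Spec (CommRingCat.of k)) ⥤ DCoh.DQCoh X} (adj : DCoh.RpushQ f hf ⊣ a)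
    (O : DCoh.DQCoh (Spec (CommRingCat.of k)))
    (eO : O.obj ≅ (DCoh.tildeD (CommRingCat.of k)).obj ωk)
    {B : Type u} [CommRing B] (j : Spec (CommRingCat.of B) ⟶ X) [IsOpenImmersion j] {ω : Dual.D B}
    (e : (rho j).obj (a.obj O).obj ≅ (DCoh.tildeD (CommRingCat.of B)).obj ω)
    (m : Ideal B) [m.IsMaximal] (hcl : IsClosed ({j ⟨m, inferInstance⟩} : Set X)) (l : ℤ) (hl : l ≠ 0) :
    Subsingleton (Dual.inD B (B ⧸ m) ⟶ ω⟦l⟧) := by
  letI : Field (B ⧸ m) := Ideal.Quotient.field m
  let ψ : k →+* B := (Spec.preimage (j ≫ f)).hom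
  let χ : k →+* B ⧸ m := (Ideal.Quotient.mk m).comp ψ
  let q := Spec.map (CommRingCat.ofHom (Ideal.Quotient.mk m))
  let i := q ≫ j
  let s := Spec.map (CommRingCat.ofHom χ)
  have hif : i ≫ f = s := by
    have hj : Spec.map (CommRingCat.ofHom ψ) = j ≫ f := Spec.map_preimage _
    simp only [i, s, χ, Category.assoc, ← hj, q]
    rw [← Spec.map_comp]
    rfl
  letI := χ.toAlgebra
  haveI : IsClosedImmersion q := IsClosedImmersion.spec_of_surjective _ Ideal.Quotient.mk_surjective
  haveI : LocallyOfFiniteType i := inferInstance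
  haveI : LocallyOfFiniteType (i ≫ f) := inferInstance
  haveI : LocallyOfFiniteType s := by rw [← hif]; infer_instance
  haveI : Algebra.FiniteType k (B ⧸ m) :=
    (HasRingHomProperty.Spec_iff (P := @LocallyOfFiniteType)).1 ‹LocallyOfFiniteType s›
  haveI : IsImmersion i := inferInstance
  have hrange : Set.range i = {j ⟨m, inferInstance⟩} := by
    ext z
    constructor
    · rintro ⟨w, rfl⟩
      have : q w = (⟨m, inferInstance⟩ : Spec (CommRingCat.of B)) := by
        refine PrimeSpectrum.ext ?_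
        show Ideal.comap (Ideal.Quotient.mk m) w.asIdeal = m
        refine ((‹m.IsMaximal›).eq_of_le (Ideal.IsPrime.comap _).ne_top ?_).symm
        intro x hx
        rw [Ideal.mem_comap, Ideal.Quotient.eq_zero_iff_mem.2 hx]
        exact zero_mem _
      exact congrArg j this
    · rintro rfl
      refine ⟨⟨⊥, Ideal.bot_prime⟩, congrArg j (PrimeSpectrum.ext ?_)⟩
      show Ideal.comap (Ideal.Quotient.mk m) ⊥ = m
      exact Ideal.mk_ker
  haveI : IsClosedImmersion i := IsClosedImmersion.of_isPreimmersion i (hrange ▸ hcl)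
  haveI : IsProper (i ≫ f) := inferInstance
  haveI : IsProper s := hif ▸ inferInstance
  haveI : IsAffineHom s := inferInstance
  haveI : IsFinite s := IsFinite.iff_isProper_and_isAffineHom.2 ⟨inferInstance, inferInstance⟩
  haveI : Module.Finite k (B ⧸ m) := RingHom.finite_algebraMap.1 ((IsFinite.SpecMap_iff _).1 ‹IsFinite s›)
  have hker : IsLocalRing.maximalIdeal k ≤ RingHom.ker (algebraMap k (B ⧸ m)) := by
    haveI : Algebra.IsIntegral k (B ⧸ m) := Algebra.IsIntegral.of_finite k (B ⧸ m)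
    haveI := Ideal.isMaximal_comap_of_isIntegral_of_isMaximal (R := k) (⊥ : Ideal (B ⧸ m))
    exact (IsLocalRing.eq_maximalIdeal (I := RingHom.ker (algebraMap k (B ⧸ m))) ‹_›).ge
  obtain ⟨hlen, -⟩ := isFiniteLength_of_residue k (B ⧸ m) hker
  haveI : IsLocallyNoetherian X := LocallyOfFiniteType.isLocallyNoetherian f
  haveI : CompactSpace X := QuasiCompact.compactSpace_of_compactSpace f
  haveI : IsNoetherian X := {}
  haveI : IsNoetherian (Spec (CommRingCat.of (B ⧸ m))) := inferInstance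
  haveI := hasRpush_scheme i
  haveI := hasRpush_scheme q
  haveI := hasRpush_scheme s
  have hi : DCoh.RpushPreservesQCoh i := fun K hK => KFlatLib.isQCohD_rpush i hK
  have hq : DCoh.RpushPreservesQCoh q := fun K hK => KFlatLib.isQCohD_rpush q hK
  have hs : DCoh.RpushPreservesQCoh s := fun K hK => KFlatLib.isQCohD_rpush s hK
  haveI : (DCoh.RpushQ i hi).IsLeftAdjoint := Groth.Agent.S1766.result _ _ i hi
  haveI : (DCoh.RpushQ q hq).IsLeftAdjoint := Groth.Agent.S1766.result _ _ q hq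
  let adji := Adjunction.ofIsLeftAdjoint (DCoh.RpushQ i hi)
  let adjq := Adjunction.ofIsLeftAdjoint (DCoh.RpushQ q hq)
  obtain ⟨_, _⟩ := ShriekTensor7.exists_commShift_rightAdjoint f hf adj
  let TB := tildeDQ (CommRingCat.of B)
  let Tk := tildeDQ (CommRingCat.of k)
  let Tκ := tildeDQ (CommRingCat.of (B ⧸ m))
  let N := Dual.inD (B ⧸ m) (B ⧸ m)
  let Kl := Tk.obj (ωk⟦l⟧)
  let eK : Kl ≅ O⟦l⟧ := ObjectProperty.isoMk _
    (((DCoh.tildeD (CommRingCat.of k)).commShiftIso l).app _ ≪≫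
      (shiftFunctor _ l).mapIso eO.symm ≪≫ (((ObjectProperty.ι _).commShiftIso l).app O).symm)
  let eR : (ShriekSupp7.restrictQ j).obj (a.obj Kl) ≅ TB.obj (ω⟦l⟧) := ObjectProperty.isoMk _
    ((rho j).mapIso ((ObjectProperty.ι _).mapIso (a.mapIso eK ≪≫ (a.commShiftIso l).app O) ≪≫
      ((ObjectProperty.ι _).commShiftIso l).app (a.obj O)) ≪≫ ((rho j).commShiftIso l).app _ ≪≫
      (shiftFunctor _ l).mapIso e ≪≫ (((DCoh.tildeD (CommRingCat.of B)).commShiftIso l).app ω).symm)
  obtain ⟨b, hb⟩ : ∃ b : ℤ, (a.obj Kl).obj.IsGE b := by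
    obtain ⟨bk, hbk⟩ := hbk
    haveI := hbk
    haveI : Kl.obj.IsGE (bk - l) := by
      haveI : (ωk⟦l⟧).IsGE (bk - l) :=
        DerivedCategory.TStructure.t.isGE_shift _ bk _ _ (by omega)
      exact (DerivedCategory.isGE_iff _ _).2 fun p hp => Functor.map_isZero (tilde.functor _)
        (DerivedCategory.isZero_of_isGE (ωk⟦l⟧) (bk - l) p hp) |>.of_iso
        ((mapDCHomologyIso (tilde.functor (CommRingCat.of k)) p).app _)
    obtain ⟨N', hN⟩ := exists_rightAdjoint_bound f hf a adj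
    exact ⟨_, (DerivedCategory.isGE_iff _ ((bk - l) - 1 - N' + 1)).2 fun p hp =>
      hN Kl ((bk - l) - 1) (fun p hp => DerivedCategory.isZero_of_isGE Kl.obj (bk - l) p (by omega)) p (by omega)⟩
  haveI := hb
  obtain ⟨r⟩ := ShriekIndep7.nonempty_rightAdjoint_restrict i hi adji j (𝟙 _)
    (by
      ext z
      refine ⟨fun _ => ⟨q z, rfl⟩, fun _ => ⟨z, rfl⟩⟩) q (Category.id_comp _) hq adjq
  let ι := ObjectProperty.ι (DCoh.IsQCohD (X := Spec (CommRingCat.of (B ⧸ m))))
  have h0 : (rho (𝟙 (Spec (CommRingCat.of (B ⧸ m))))).obj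
        ((DCoh.RpushQ i hi).rightAdjoint.obj (a.obj Kl)).obj ≅
      ((DCoh.RpushQ i hi).rightAdjoint.obj (a.obj Kl)).obj :=
    PerfGen7.rhoId _
  let c : (DCoh.RpushQ i hi).rightAdjoint.obj (a.obj Kl) ≅ (DCoh.RpushQ q hq).rightAdjoint.obj (TB.obj (ω⟦l⟧)) :=
    ObjectProperty.isoMk _ (h0.symm ≪≫ r.app ⟨a.obj Kl, b, hb⟩ ≪≫
      ι.mapIso ((DCoh.RpushQ q hq).rightAdjoint.mapIso eR))
  obtain ⟨eq₁⟩ := nonempty_hom_equiv (Ideal.Quotient.mk m) hq N (ω⟦l⟧)
  obtain ⟨eq₂⟩ := nonempty_hom_equiv χ hs N (ωk⟦l⟧)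
  obtain ⟨cc⟩ : Nonempty ((DCoh.RpushQ f hf).obj ((DCoh.RpushQ i hi).obj (Tκ.obj N)) ≅
      (DCoh.RpushQ s hs).obj (Tκ.obj N)) := by
    haveI := hasRpush_scheme (i ≫ f)
    obtain ⟨cc⟩ := nonempty_rpush_comp i f
    refine ⟨ObjectProperty.isoMk _ (cc.app _ ≪≫ ?_)⟩
    exact (eqToIso (show DCoh.Rpush (i ≫ f) = DCoh.Rpush s by congr 1)).app _
  haveI : Subsingleton ((DRing.restrictD χ).obj N ⟶ ωk⟦l⟧) := by
    haveI : Subsingleton ((ModuleCat.restrictScalars.{u} χ ⋙ DerivedCategory.singleFunctor (ModuleCat.{u} k) 0).obj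
        (ModuleCat.of (B ⧸ m) (B ⧸ m)) ⟶ ωk⟦l⟧) :=
      PerfGen7.DualFinLen.subsingleton_hom_finiteLength hnk (B ⧸ m) hlen l hl
    exact (Iso.homCongr (((ModuleCat.restrictScalars.{u} χ).mapDerivedCategorySingleFunctor 0).app
      (ModuleCat.of (B ⧸ m) (B ⧸ m))) (Iso.refl _)).subsingleton
  have hsub : Subsingleton ((DRing.restrictD (Ideal.Quotient.mk m)).obj N ⟶ ω⟦l⟧) := by
    refine Equiv.subsingleton (β := ((DRing.restrictD χ).obj N ⟶ ωk⟦l⟧)) ?_
    exact eq₁.symm.trans ((adjq.homEquiv _ _).trans ((Iso.homCongr (Iso.refl _) c.symm).trans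
      ((adji.homEquiv _ _).symm.trans ((adj.homEquiv _ _).symm.trans
        ((Iso.homCongr cc (Iso.refl _)).trans eq₂)))))
  exact @Equiv.subsingleton _ _ (Iso.homCongr (((ModuleCat.restrictScalars.{u} (Ideal.Quotient.mk m)).mapDerivedCategorySingleFunctor 0).app
    (ModuleCat.of (B ⧸ m) (B ⧸ m))) (Iso.refl (ω⟦l⟧))).symm hsub

end Groth.Agent.DualLocal7
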