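import Groth.Agent.DualLocal7.Main
import Groth.Agent.BMLib.Dim

/-!
# The support of the dualizing module
-/

set_option linter.style.haveILetI false
set_option backward.isDefEq.respectTransparency false
set_option backward.isDefEq.respectTransparency.types false
set_option maxHeartbeats 2000000

universe u

open CategoryTheory CategoryTheory.Limits AlgebraicGeometry Order Topology

attribute [local instance] HasDerivedCategory.standard

namespace Groth.Agent.DualLocal7

open Groth.Agent.KFlatLib Groth.Agent.PerfGen7 Groth.Agent.DualField7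

/-- An irreducible component of the expected dimension through a closed point gives a long chain. -/
theorem le_ringKrullDim_quotient {X : Scheme.{u}} {R : CommRingCat.{u}} (j : Spec R ⟶ X) [IsOpenImmersion j]
    (m : Spec R) (P : PrimeSpectrum (Localization.AtPrime m.asIdeal)) (n : ℕ)
    (hn : ringKrullDim (Localization.AtPrime m.asIdeal ⧸ P.asIdeal) = n) :
    (n : WithBot ℕ∞) ≤ topologicalKrullDim
      (closure ({j (PrimeSpectrum.comap (algebraMap R (Localization.AtPrime m.asIdeal)) P)} : Set X)) := by
  let B := Localization.AtPrime m.asIdeal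
  let η : X := j (PrimeSpectrum.comap (algebraMap R B) P)
  haveI : QuasiSober (closure ({η} : Set X)) := (isClosed_closure.isClosedEmbedding_subtypeVal).quasiSober
  rw [BMLib.topologicalKrullDim_eq_points, ← hn, ringKrullDim]
  letI := specializationOrder (closure ({η} : Set X))
  rw [← Order.krullDim_orderDual (α := PrimeSpectrum (B ⧸ P.asIdeal))]
  let g : PrimeSpectrum (B ⧸ P.asIdeal) → Spec R := fun Q =>
    PrimeSpectrum.comap (algebraMap R B) (PrimeSpectrum.comap (Ideal.Quotient.mk P.asIdeal) Q)
  have hmem : ∀ Q, j (g Q) ∈ closure ({η} : Set X) := fun Q => by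
    refine specializes_iff_mem_closure.1 ?_
    refine Specializes.map ?_ j.continuous
    refine (PrimeSpectrum.le_iff_specializes _ _).1 ?_
    exact Ideal.comap_mono fun b hb => by
      show Ideal.Quotient.mk P.asIdeal b ∈ Q.asIdeal
      rw [Ideal.Quotient.eq_zero_iff_mem.2 hb]
      exact zero_mem _
  have hinj : Function.Injective g :=
    (PrimeSpectrum.localization_comap_injective B m.asIdeal.primeCompl).comp
      (PrimeSpectrum.comap_injective_of_surjective _ Ideal.Quotient.mk_surjective)
  refine @Order.krullDim_le_of_strictMono _ _ _ (specializationOrder (closure ({η} : Set X))).toPreorder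
    (fun Q => (⟨j (g (OrderDual.ofDual Q)), hmem _⟩ : closure ({η} : Set X))) ?_
  intro Q₁ Q₂ h
  have h' : OrderDual.ofDual Q₂ < OrderDual.ofDual Q₁ := h
  refine @lt_of_le_of_ne _ (specializationOrder (closure ({η} : Set X))) _ _ ?_ fun e => h'.ne' ?_
  · refine (subtype_specializes_iff _ _).2 ?_
    show j (g (OrderDual.ofDual Q₂)) ⤳ j (g (OrderDual.ofDual Q₁))
    exact Specializes.map ((PrimeSpectrum.le_iff_specializes (g _) (g _)).1
      (show (g (OrderDual.ofDual Q₂)).asIdeal ≤ (g (OrderDual.ofDual Q₁)).asIdeal from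
        Ideal.comap_mono (Ideal.comap_mono h'.le))) j.continuous
  · exact hinj (j.isOpenEmbedding.injective (congrArg Subtype.val e))

variable [∀ (R : CommRingCat.{u}), PreservesFiniteLimits (tilde.functor R)]
  [∀ (U V : Scheme.{u}) (j : U ⟶ V) [IsOpenImmersion j], PreservesFiniteLimits (Scheme.Modules.restrictFunctor j)]
  {A : Type u} [CommRing A] [IsLocalRing A] [IsNoetherianRing A]
  {ωA : Dual.D A} (hωA : Dual.IsDualizing A ωA) (hnA : Dual.IsNormalized A ωA)
  {X : Scheme.{u}}
  (f : X ⟶ Spec (CommRingCat.of A)) [IsProper f] [DCoh.HasRpush f] (hf : DCoh.RpushPreservesQCoh f)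
  {a : DCoh.DQCoh (Spec (CommRingCat.of A)) ⥤ DCoh.DQCoh X} (adj : DCoh.RpushQ f hf ⊣ a)
  (W : DCoh.DQCoh (Spec (CommRingCat.of A)))
  (hW : Nonempty (W.obj ≅ (DCoh.tildeD (CommRingCat.of A)).obj ωA))

include hωA hW adj hnA

/-- The support of the top cohomology is the union of the components of top dimension. -/
theorem support_eq (n : ℕ) (hdim : topologicalKrullDim X ≤ n) :
    {x : X | Nontrivial ((DCoh.HD (a.obj W).obj (-(n : ℤ))).presheaf.stalk x)} =
      ⋃ Z ∈ {Z : Set X | Z ∈ irreducibleComponents X ∧ topologicalKrullDim ↥Z = (n : WithBot ℕ∞)}, Z := by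
  haveI : CompactSpace X := QuasiCompact.compactSpace_of_compactSpace f
  ext x
  constructor
  · intro hx
    obtain ⟨y, hy, hyc⟩ := IsClosed.exists_closed_singleton (S := closure ({x} : Set X)) isClosed_closure
      ⟨x, subset_closure rfl⟩
    obtain ⟨R, hR, j, hj, m, hm, ω, rfl, hω, hn, hst⟩ := exists_local_data hωA hnA f hf adj W hW y hyc
    have hxy : x ⤳ j m := specializes_iff_mem_closure.2 hy
    obtain ⟨p, rfl⟩ := hxy.mem_open j.isOpenEmbedding.isOpen_range ⟨m, rfl⟩
    have hpm : (p : PrimeSpectrum R).asIdeal ≤ (m : PrimeSpectrum R).asIdeal :=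
      (PrimeSpectrum.le_iff_specializes p m).2 ((j.isOpenEmbedding.isInducing.specializes_iff).1 hxy)
    let mI := (m : PrimeSpectrum R).asIdeal
    let B := Localization.AtPrime mI
    haveI : IsNoetherianRing B := IsLocalization.isNoetherianRing mI.primeCompl _ inferInstance
    have hdj : Disjoint (mI.primeCompl : Set R) ((p : PrimeSpectrum R).asIdeal : Set R) :=
      Set.disjoint_left.2 fun r hr hr' => hr (hpm hr')
    let P : PrimeSpectrum B := ⟨_, IsLocalization.isPrime_of_isPrime_disjoint mI.primeCompl B _
      (p : PrimeSpectrum R).isPrime hdj⟩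
    have hP : PrimeSpectrum.comap (algebraMap R B) P = p :=
      PrimeSpectrum.ext (IsLocalization.under_map_of_isPrime_disjoint mI.primeCompl B (p : PrimeSpectrum R).isPrime hdj)
    have hsupp : P ∈ Module.support B (Dual.HD B ω (-(n : ℤ))) := by
      refine (hst P _).1 ?_
      rw [hP]
      exact hx
    haveI : Nontrivial (Dual.HD B ω (-(n : ℤ))) := Module.nonempty_support_iff.1 ⟨P, hsupp⟩
    obtain ⟨d, hd⟩ := LocalizeDual.exists_supportDim_eq (B := B) B
    rw [Module.supportDim_self_eq_ringKrullDim] at hd
    have hle : (d : WithBot ℕ∞) ≤ n := by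
      rw [← hd]
      let s : X.presheaf.stalk (j m) ≃+* B :=
        ((asIso (j.stalkMap m)).commRingCatIsoToRingEquiv).trans (StructureSheaf.stalkIso R m).toRingEquiv.symm
      rw [← ringKrullDim_eq_of_ringEquiv s]
      exact (CurveCohLib.ringKrullDim_stalk_le_topologicalKrullDim _).trans hdim
    have hle' : d ≤ n := by exact_mod_cast hle
    rcases hle'.lt_or_eq with hlt | rfl
    · haveI := dim_local hω hn n d hd hlt
      exact absurd (inferInstance : Subsingleton (Dual.HD B ω (-(n : ℤ)))) (not_subsingleton _)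
    rw [(Groth.Agent.S0369.result B ω hω hn d hd).1] at hsupp
    obtain ⟨q, hq, hqP, hqd⟩ := hsupp
    let q' : PrimeSpectrum B := ⟨q, hq.1.1⟩
    let η : X := j (PrimeSpectrum.comap (algebraMap R B) q')
    obtain ⟨Z, hZ, hsub⟩ := exists_mem_irreducibleComponents_subset_of_isIrreducible (closure ({η} : Set X))
      isIrreducible_singleton.closure
    have hηx : η ⤳ j p := Specializes.map ((PrimeSpectrum.le_iff_specializes _ p).1 (by
      rw [← hP]; exact Ideal.comap_mono hqP)) j.continuous
    refine Set.mem_iUnion₂.2 ⟨Z, ⟨hZ, le_antisymm ?_ ?_⟩, hsub (specializes_iff_mem_closure.1 hηx)⟩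
    · exact ((IsEmbedding.subtypeVal (p := fun z => z ∈ Z)).isInducing.topologicalKrullDim_le).trans hdim
    · exact (le_ringKrullDim_quotient j m q' d hqd).trans
        (Topology.IsEmbedding.inclusion hsub).isInducing.topologicalKrullDim_le
  · intro hx
    obtain ⟨Z, ⟨hZ, hZn⟩, hxZ⟩ := Set.mem_iUnion₂.1 hx
    have hZc : IsClosed Z := isClosed_of_mem_irreducibleComponents Z hZ
    have hZi : IsIrreducible Z := hZ.1
    obtain ⟨η, hη⟩ := QuasiSober.sober hZi hZc
    suffices hgen : Nontrivial ((DCoh.HD (a.obj W).obj (-(n : ℤ))).presheaf.stalk η) by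
      have hsub : ({η} : Set X) ⊆ {x : X | Nontrivial ((DCoh.HD (a.obj W).obj (-(n : ℤ))).presheaf.stalk x)} :=
        Set.singleton_subset_iff.2 hgen
      have := closure_minimal hsub (isClosed_support hωA hnA f hf adj W hW (-(n : ℤ)))
      exact this (hη.specializes hxZ).mem_closure
    haveI : QuasiSober Z := hZc.isClosedEmbedding_subtypeVal.quasiSober
    letI := specializationOrder Z
    rw [BMLib.topologicalKrullDim_eq_points] at hZn
    haveI : Nonempty Z := ⟨⟨x, hxZ⟩⟩
    obtain ⟨s, hs⟩ : ∃ s : @LTSeries Z (specializationOrder Z).toPreorder, s.length = n :=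
      (@Order.le_krullDim_iff Z (specializationOrder Z).toPreorder n).1 hZn.ge
    obtain ⟨y, hy, hyc⟩ := IsClosed.exists_closed_singleton (S := closure ({(s.head : X)} : Set X)) isClosed_closure
      ⟨_, subset_closure rfl⟩
    have hyZ : y ∈ Z := closure_minimal (Set.singleton_subset_iff.2 s.head.2) hZc hy
    obtain ⟨R, hR, j, hj, m, hm, ω, rfl, hω, hn, hst⟩ := exists_local_data hωA hnA f hf adj W hW y hyc
    let mI := (m : PrimeSpectrum R).asIdeal
    let B := Localization.AtPrime mI
    haveI : IsNoetherianRing B := IsLocalization.isNoetherianRing mI.primeCompl _ inferInstance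
    have hηy : η ⤳ j m := hη.specializes hyZ
    obtain ⟨p, rfl⟩ := hηy.mem_open j.isOpenEmbedding.isOpen_range ⟨m, rfl⟩
    have hpm : (p : PrimeSpectrum R).asIdeal ≤ (m : PrimeSpectrum R).asIdeal :=
      (PrimeSpectrum.le_iff_specializes p m).2 ((j.isOpenEmbedding.isInducing.specializes_iff).1 hηy)
    have hdj : Disjoint (mI.primeCompl : Set R) ((p : PrimeSpectrum R).asIdeal : Set R) :=
      Set.disjoint_left.2 fun r hr hr' => hr (hpm hr')
    let P : PrimeSpectrum B := ⟨_, IsLocalization.isPrime_of_isPrime_disjoint mI.primeCompl B _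
      (p : PrimeSpectrum R).isPrime hdj⟩
    have hP : PrimeSpectrum.comap (algebraMap R B) P = p :=
      PrimeSpectrum.ext (IsLocalization.under_map_of_isPrime_disjoint mI.primeCompl B (p : PrimeSpectrum R).isPrime hdj)
    have hminP : P.asIdeal ∈ minimalPrimes B := by
      refine ⟨⟨P.isPrime, bot_le⟩, fun Q hQ hQP => ?_⟩
      let Q' : PrimeSpectrum B := ⟨Q, hQ.1⟩
      have h1 : j (PrimeSpectrum.comap (algebraMap R B) Q') ⤳ j p :=
        Specializes.map ((PrimeSpectrum.le_iff_specializes _ p).1 (by rw [← hP]; exact Ideal.comap_mono hQP)) j.continuous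
      have h2 : Z ⊆ closure {j (PrimeSpectrum.comap (algebraMap R B) Q')} := by
        rw [← hη]
        exact closure_minimal (Set.singleton_subset_iff.2 (specializes_iff_mem_closure.1 h1)) isClosed_closure
      have h3 := hη.specializes (hZ.2 isIrreducible_singleton.closure h2 (subset_closure rfl))
      have h4 : PrimeSpectrum.comap (algebraMap R B) Q' = PrimeSpectrum.comap (algebraMap R B) P := by
        rw [hP]
        exact j.isOpenEmbedding.injective (h1.antisymm h3).eq
      exact (congrArg PrimeSpectrum.asIdeal (PrimeSpectrum.localization_comap_injective B mI.primeCompl h4)).ge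
    have hZB : (n : WithBot ℕ∞) ≤ ringKrullDim (B ⧸ P.asIdeal) := by
      rw [← Module.supportDim_quotient_eq_ringKrullDim]
      refine le_trans ?_ (length_le_supportDim j m (B ⧸ P.asIdeal) Z (fun Q hQ => ?_) s.length (fun i => (s i : X))
        (fun i => (s i).2) (fun i => ?_) fun i => ?_)
      · rw [hs]
      · rw [Module.support_eq_zeroLocus, Ideal.annihilator_quotient, PrimeSpectrum.mem_zeroLocus]
        have h1 : j p ⤳ j (PrimeSpectrum.comap (algebraMap R B) Q) := hη.specializes hQ
        have h2 : (p : PrimeSpectrum R).asIdeal ≤ (PrimeSpectrum.comap (algebraMap R B) Q).asIdeal :=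
          (PrimeSpectrum.le_iff_specializes _ _).2 ((j.isOpenEmbedding.isInducing.specializes_iff).1 h1)
        exact (Ideal.map_mono h2).trans Ideal.map_comap_le
      · have h0 : (s.head : X) ⤳ j m := specializes_iff_mem_closure.2 hy
        have hle : @LE.le _ (specializationOrder Z).toPreorder.toLE s.head (s i) :=
          @LTSeries.head_le _ (specializationOrder Z).toPreorder s i
        exact ((subtype_specializes_iff _ _).1 hle).trans h0
      · have hstep : @LT.lt _ (specializationOrder Z).toPreorder.toLT (s i.castSucc) (s i.succ) := s.step i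
        exact ⟨(subtype_specializes_iff _ _).1 (@le_of_lt _ (specializationOrder Z).toPreorder _ _ hstep),
          fun e => (@ne_of_lt _ (specializationOrder Z).toPreorder _ _ hstep) (Subtype.ext e.symm)⟩
    obtain ⟨d, hd⟩ := LocalizeDual.exists_supportDim_eq (B := B) B
    rw [Module.supportDim_self_eq_ringKrullDim] at hd
    have hle : (d : WithBot ℕ∞) ≤ n := by
      rw [← hd]
      let t : X.presheaf.stalk (j m) ≃+* B :=
        ((asIso (j.stalkMap m)).commRingCatIsoToRingEquiv).trans (StructureSheaf.stalkIso R m).toRingEquiv.symm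
      rw [← ringKrullDim_eq_of_ringEquiv t]
      exact (CurveCohLib.ringKrullDim_stalk_le_topologicalKrullDim _).trans hdim
    have hge : ringKrullDim (B ⧸ P.asIdeal) ≤ d := hd ▸ ringKrullDim_le_of_surjective _ Ideal.Quotient.mk_surjective
    obtain rfl : d = n := le_antisymm (by exact_mod_cast hle) (by exact_mod_cast hZB.trans hge)
    rw [← hP, hst P _, (Groth.Agent.S0369.result B ω hω hn d hd).1]
    exact ⟨P.asIdeal, hminP, le_rfl, le_antisymm hge hZB⟩

end Groth.Agent.DualLocal7
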