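import Groth.Agent.DualLocal7.Components
import Groth.Agent.DualLocal7.CMModule
import Groth.Agent.LC.PuncturedConn

/-!
# The dualizing complex over a field: consequences
-/

set_option linter.style.haveILetI false
set_option backward.isDefEq.respectTransparency false
set_option backward.isDefEq.respectTransparency.types false
set_option maxHeartbeats 2000000

universe u

open CategoryTheory CategoryTheory.Limits AlgebraicGeometry Order Topology

attribute [local instance] HasDerivedCategory.standard

namespace Groth.Agent.DualLocal7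

open Groth.Agent.KFlatLib Groth.Agent.PerfGen7 Groth.Agent.DualField7

/-- A field is its own normalized dualizing complex. -/
theorem isNormalized_field (k : Type u) [Field k] : Dual.IsNormalized k (Dual.inD k k) := fun l hl => by
  haveI := subsingleton_ext_field k k l hl
  let q : IsLocalRing.ResidueField k ≃ₗ[k] k :=
    Submodule.quotEquivOfEqBot (IsLocalRing.maximalIdeal k)
      (IsLocalRing.isField_iff_maximalIdeal_eq.1 (Field.toIsField k))
  exact (Iso.homCongr ((DerivedCategory.singleFunctor (ModuleCat.{u} k) 0).mapIso q.toModuleIso)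
    (Iso.refl ((Dual.inD k k)⟦l⟧))).subsingleton

theorem isDualizing_field (k : Type u) [Field k] : Dual.IsDualizing k (Dual.inD k k) :=
  (Groth.Agent.S11179.result k).1 (Groth.Agent.S0342.result k)

variable [∀ (R : CommRingCat.{u}), PreservesFiniteLimits (tilde.functor R)]
  [∀ (U V : Scheme.{u}) (j : U ⟶ V) [IsOpenImmersion j], PreservesFiniteLimits (Scheme.Modules.restrictFunctor j)]

omit [∀ (U V : Scheme.{u}) (j : U ⟶ V) [IsOpenImmersion j], PreservesFiniteLimits (Scheme.Modules.restrictFunctor j)] in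
/-- The structure sheaf of a field as the tilde of the field. -/
theorem nonempty_iso_tilde {k : Type u} [Field k] (O : DCoh.DQCoh (Spec (CommRingCat.of k)))
    (hO : Nonempty (O.obj ≅ DCoh.inD (Spec (CommRingCat.of k)) (Coh.structureModule (Spec (CommRingCat.of k))))) :
    Nonempty (O.obj ≅ (DCoh.tildeD (CommRingCat.of k)).obj (Dual.inD k k)) := by
  obtain ⟨eO'⟩ := hO
  haveI : PreservesFiniteColimits (tilde.functor (CommRingCat.of k)) := QCoh.tilde_preservesFiniteColimits
  haveI : (tilde.functor (CommRingCat.of k)).Additive := KFlatLib.tilde_additive _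
  haveI : ∀ (U V : Scheme.{u}) (j : U ⟶ V) [IsOpenImmersion j], PreservesFiniteLimits (Scheme.Modules.restrictFunctor j) :=
    fun U V j _ => QCoh.restrict_preservesFiniteLimits j
  obtain ⟨st⟩ := Dual3Gor7.nonempty_structure_restrict (A := k) (𝟙 (Spec (CommRingCat.of k)))
  exact ⟨eO' ≪≫ (rhoId _).symm ≪≫ st⟩

variable {A : Type u} [CommRing A] [IsLocalRing A] [IsNoetherianRing A]
  {ωA : Dual.D A} (hωA : Dual.IsDualizing A ωA) (hnA : Dual.IsNormalized A ωA)
  {X : Scheme.{u}}
  (f : X ⟶ Spec (CommRingCat.of A)) [IsProper f] [DCoh.HasRpush f] (hf : DCoh.RpushPreservesQCoh f)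
  {a : DCoh.DQCoh (Spec (CommRingCat.of A)) ⥤ DCoh.DQCoh X} (adj : DCoh.RpushQ f hf ⊣ a)
  (W : DCoh.DQCoh (Spec (CommRingCat.of A)))
  (hW : Nonempty (W.obj ≅ (DCoh.tildeD (CommRingCat.of A)).obj ωA))

include hωA hW adj hnA

/-- Stalks at a closed point and depth of the local ring. -/
theorem exists_stalk_iff (x : X) (hx : IsClosed ({x} : Set X)) :
    ∃ n : ℕ, LocCoh.depth (X.presheaf.stalk x) (X.presheaf.stalk x) = n ∧
      (∀ δ : ℕ, δ < n → ¬ Nontrivial ((DCoh.HD (a.obj W).obj (-(δ : ℤ))).presheaf.stalk x)) ∧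
      Nontrivial ((DCoh.HD (a.obj W).obj (-(n : ℤ))).presheaf.stalk x) ∧
      ∀ j : ℤ, Nontrivial ((DCoh.HD (a.obj W).obj j).presheaf.stalk x) → j ≤ 0 := by
  obtain ⟨R, hR, j, hj, m, hm, ω, rfl, hω, hn, hst⟩ := exists_local_data hωA hnA f hf adj W hW x hx
  let mI := (m : PrimeSpectrum R).asIdeal
  let B := Localization.AtPrime mI
  haveI : IsNoetherianRing B := IsLocalization.isNoetherianRing mI.primeCompl _ inferInstance
  have hc : PrimeSpectrum.comap (algebraMap R B) (IsLocalRing.closedPoint B) = m :=
    PrimeSpectrum.ext (IsLocalization.AtPrime.comap_maximalIdeal B mI)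
  have key : ∀ i : ℤ, Nontrivial ((DCoh.HD (a.obj W).obj i).presheaf.stalk (j m)) ↔ Nontrivial (Dual.HD B ω i) := by
    intro i
    have h := hst (IsLocalRing.closedPoint B) i
    rw [hc] at h
    refine h.trans ⟨fun h' => Module.nonempty_support_iff.1 ⟨_, h'⟩, fun h' => ?_⟩
    haveI := hω.finite_cohomology i
    exact IsLocalRing.closedPoint_mem_support B _
  obtain ⟨n, h1, h2, h3, h4⟩ := exists_depth_eq hω hn
  refine ⟨n, ?_, fun δ hδ h => ?_, (key _).2 h3, fun i hi => h4 i ((key i).1 hi)⟩
  · let s : X.presheaf.stalk (j m) ≃+* B :=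
      ((asIso (j.stalkMap m)).commRingCatIsoToRingEquiv).trans (StructureSheaf.stalkIso R m).toRingEquiv.symm
    rw [← h1]
    exact Alg6.depth_eq_of_semilinear s.toRingHom s.surjective s.toAddEquiv fun r x => map_mul s r x
  · haveI := h2 δ hδ
    exact not_nontrivial _ ((key _).1 h)

omit hωA hnA adj hW in
/-- In a space all of whose components have dimension `d` the dimension is at most `d`. -/
theorem topologicalKrullDim_le_of_components (d : ℕ)
    (hd : ∀ Z : Set X, Z ∈ irreducibleComponents X → topologicalKrullDim ↥Z = (d : WithBot ℕ∞)) :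
    topologicalKrullDim X ≤ d := by
  letI := specializationOrder X
  rw [BMLib.topologicalKrullDim_eq_points]
  refine iSup_le fun s => ?_
  have h1 := @Order.length_le_height_last X (specializationOrder X).toPreorder s
  obtain ⟨Z, hZ, hsub⟩ := exists_mem_irreducibleComponents_subset_of_isIrreducible
    (closure ({(@RelSeries.last X _ s)} : Set X)) isIrreducible_singleton.closure
  have h2 := (BMLib.topologicalKrullDim_closure_singleton (@RelSeries.last X _ s)).symm.le.trans
    ((Topology.IsEmbedding.inclusion hsub).isInducing.topologicalKrullDim_le.trans (hd Z hZ).le)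
  exact le_trans (WithBot.coe_le_coe.2 h1) h2

/-- With components of dimension `d` the top cohomology is supported everywhere. -/
theorem nontrivial_stalk_of_components (d : ℕ)
    (hd : ∀ Z : Set X, Z ∈ irreducibleComponents X → topologicalKrullDim ↥Z = (d : WithBot ℕ∞)) (x : X) :
    Nontrivial ((DCoh.HD (a.obj W).obj (-(d : ℤ))).presheaf.stalk x) := by
  have h := support_eq hωA hnA f hf adj W hW d (topologicalKrullDim_le_of_components d hd)
  obtain ⟨Z, hZ, hsub⟩ := exists_mem_irreducibleComponents_subset_of_isIrreducible ({x} : Set X) isIrreducible_singleton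
  exact h.ge (Set.mem_iUnion₂.2 ⟨Z, ⟨hZ, hd Z hZ⟩, hsub rfl⟩)

/-- The Cohen–Macaulay equidimensional case. -/
theorem cm_case (hCM : ∀ x : X, LocCoh.IsCohenMacaulayLocalRing (X.presheaf.stalk x)) (d : ℕ)
    (hd : ∀ Z : Set X, Z ∈ irreducibleComponents X → topologicalKrullDim ↥Z = (d : WithBot ℕ∞)) :
    (∀ i : ℤ, i ≠ -(d : ℤ) → IsZero (DCoh.HD (a.obj W).obj i)) ∧
      ∀ x : X, LocCoh.IsCohenMacaulayModule (X.presheaf.stalk x)
        ((DCoh.HD (a.obj W).obj (-(d : ℤ))).presheaf.stalk x) := by
  haveI : CompactSpace X := QuasiCompact.compactSpace_of_compactSpace f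
  have hdim := topologicalKrullDim_le_of_components d hd
  have key : ∀ x : X, (∀ i : ℤ, i ≠ -(d : ℤ) → ¬ Nontrivial ((DCoh.HD (a.obj W).obj i).presheaf.stalk x)) ∧
      LocCoh.IsCohenMacaulayModule (X.presheaf.stalk x) ((DCoh.HD (a.obj W).obj (-(d : ℤ))).presheaf.stalk x) := by
    intro x
    obtain ⟨y, hy, hyc⟩ := IsClosed.exists_closed_singleton (S := closure ({x} : Set X)) isClosed_closure
      ⟨x, subset_closure rfl⟩
    obtain ⟨R, hR, j, hj, m, hm, ωR, ω, rfl, hω, hn, h3, h4⟩ := exists_closed_data hωA hnA f hf adj W hW y hyc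
    have hxy : x ⤳ j m := specializes_iff_mem_closure.2 hy
    obtain ⟨p, rfl⟩ := hxy.mem_open j.isOpenEmbedding.isOpen_range ⟨m, rfl⟩
    have hpm : (p : PrimeSpectrum R).asIdeal ≤ (m : PrimeSpectrum R).asIdeal :=
      (PrimeSpectrum.le_iff_specializes p m).2 ((j.isOpenEmbedding.isInducing.specializes_iff).1 hxy)
    let mI := (m : PrimeSpectrum R).asIdeal
    let B := Localization.AtPrime mI
    haveI : IsNoetherianRing B := IsLocalization.isNoetherianRing mI.primeCompl _ inferInstance
    let t : X.presheaf.stalk (j m) ≃+* B :=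
      ((asIso (j.stalkMap m)).commRingCatIsoToRingEquiv).trans (StructureSheaf.stalkIso R m).toRingEquiv.symm
    have hBCM : LocCoh.IsCohenMacaulayLocalRing B := by
      haveI : IsNoetherianRing (X.presheaf.stalk (j m)) := isNoetherianRing_of_ringEquiv _ t.symm
      haveI := hCM (j m)
      exact LC.Liaison.isCMLocal_of_ringEquiv t
    obtain ⟨e, he⟩ := LocalizeDual.exists_supportDim_eq (B := B) B
    rw [Module.supportDim_self_eq_ringKrullDim] at he
    have hle : (e : WithBot ℕ∞) ≤ d := by
      rw [← he, ← ringKrullDim_eq_of_ringEquiv t]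
      exact (CurveCohLib.ringKrullDim_stalk_le_topologicalKrullDim _).trans hdim
    have hle' : e ≤ d := by exact_mod_cast hle
    obtain ⟨hvan, hsupp, hcm⟩ := cm_dualizing hω hn hBCM e he
    have hzero : ∀ i : ℤ, i ≠ -(e : ℤ) → ∀ q : Spec R, q.asIdeal ≤ mI →
        ¬ Nontrivial ((DCoh.HD (a.obj W).obj i).presheaf.stalk (j q)) := by
      intro i hi q hq hnt
      obtain ⟨ei⟩ := h3 i
      obtain ⟨ci⟩ := h4 i
      haveI := hvan i hi
      haveI : Subsingleton (LocalizedModule mI.primeCompl (Dual.HD R ωR i)) := ci.symm.toEquiv.subsingleton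
      haveI : Subsingleton (LocalizedModule (q : PrimeSpectrum R).asIdeal.primeCompl (Dual.HD R ωR i)) := by
        refine LocalizedModule.subsingleton_iff.2 fun z => ?_
        obtain ⟨r, hr, h⟩ := LocalizedModule.subsingleton_iff.1 ‹Subsingleton (LocalizedModule mI.primeCompl _)› z
        exact ⟨r, fun h' => hr (hq h'), h⟩
      have hd' := (depth_supportDim_stalk j _ _ ei q).2
      rw [(Module.supportDim_eq_bot_iff_subsingleton _ _).2 ‹Subsingleton (LocalizedModule (q : PrimeSpectrum R).asIdeal.primeCompl _)›,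
        Module.supportDim_eq_bot_iff_subsingleton] at hd'
      exact not_nontrivial _ hnt
    obtain rfl : e = d := by
      have h := nontrivial_stalk_of_components hωA hnA f hf adj W hW d hd (j m)
      by_contra hne
      exact hzero (-(d : ℤ)) (by omega) m le_rfl h
    refine ⟨fun i hi => hzero i hi p hpm, ?_⟩
    obtain ⟨ed⟩ := h3 (-(e : ℤ))
    obtain ⟨cd⟩ := h4 (-(e : ℤ))
    have hdj : Disjoint (mI.primeCompl : Set R) ((p : PrimeSpectrum R).asIdeal : Set R) :=
      Set.disjoint_left.2 fun r hr hr' => hr (hpm hr')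
    let P : PrimeSpectrum B := ⟨_, IsLocalization.isPrime_of_isPrime_disjoint mI.primeCompl B _
      (p : PrimeSpectrum R).isPrime hdj⟩
    have hP : PrimeSpectrum.comap (algebraMap R B) P = p :=
      PrimeSpectrum.ext (IsLocalization.under_map_of_isPrime_disjoint mI.primeCompl B (p : PrimeSpectrum R).isPrime hdj)
    let M' := LocalizedModule mI.primeCompl (Dual.HD R ωR (-(e : ℤ)))
    haveI : Module.Finite B M' := by
      haveI := hω.finite_cohomology (-(e : ℤ))
      exact Module.Finite.equiv cd
    have hM' : LocCoh.IsCohenMacaulayModule B M' := by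
      unfold LocCoh.IsCohenMacaulayModule at hcm ⊢
      rw [← Module.supportDim_eq_of_equiv cd, ← FlatLoc6.depth_congr' cd]
      exact hcm
    have hP' : P ∈ Module.support B M' := by
      rw [← cd.support_eq, hsupp]
      trivial
    have h := LC.isCM_localized _ hM' hP'
    obtain ⟨h1, h2⟩ := depth_supportDim_stalk j _ _ ed (PrimeSpectrum.comap (algebraMap R B) P)
    rw [← hP]
    unfold LocCoh.IsCohenMacaulayModule at h ⊢
    rw [h1, h2]
    rw [Alg6.depth_locLoc, Alg6.supportDim_locLoc] at h
    exact h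
  refine ⟨fun i hi => isZero_of_stalk _ fun x => ?_, fun x => (key x).2⟩
  haveI : Subsingleton ((DerSch.stalkFunctor X x).obj (DCoh.HD (a.obj W).obj i) : Type u) :=
    not_nontrivial_iff_subsingleton.1 ((key x).1 i hi)
  exact ModuleCat.isZero_of_subsingleton _

omit hωA hnA adj hW in
/-- An element killed off the closed point vanishes in a module of positive depth. -/
theorem eq_zero_of_depth {C N : Type u} [CommRing C] [IsLocalRing C] [IsNoetherianRing C] [AddCommGroup N]
    [Module C N] [Module.Finite C N] (h : (1 : ℕ∞) ≤ LocCoh.depth C N) (z : N)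
    (hz : ∀ (Q : Ideal C) [Q.IsPrime], Q ≠ IsLocalRing.maximalIdeal C → ∃ r, r ∉ Q ∧ r • z = 0) : z = 0 := by
  rcases subsingleton_or_nontrivial N with hN | hN
  · exact Subsingleton.elim _ _
  obtain ⟨x, hx, hreg⟩ := LC.exists_regular_of_depth (R := C) (M := N) (k := 1) one_pos (by exact_mod_cast h)
  have hrad : x ∈ ((⊥ : Submodule C N).colon {z}).radical := by
    rw [Ideal.radical_eq_sInf, Submodule.mem_sInf]
    rintro Q ⟨hle, hQ⟩
    by_cases hQm : Q = IsLocalRing.maximalIdeal C
    · exact hQm ▸ hx
    · obtain ⟨r, hr, hrz⟩ := @hz Q hQ hQm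
      exact absurd (hle (Submodule.mem_colon_singleton.2 ((Submodule.mem_bot C).2 hrz))) hr
  obtain ⟨n, hn⟩ := hrad
  have := (Submodule.mem_bot C).1 (Submodule.mem_colon_singleton.1 hn)
  exact (hreg.pow n).right_eq_zero_of_smul this

/-- Sections of the dualizing module of a pure one-dimensional scheme have no finite support. -/
theorem injective_map_of_dim_one
    (hd : ∀ Z ∈ irreducibleComponents X, topologicalKrullDim ↥Z = (1 : WithBot ℕ∞))
    (U : X.Opens) (hU : ∀ x : X, ¬ IsClosed ({x} : Set X) → x ∈ U) (V : X.Opens) :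
    Function.Injective
      ((DCoh.HD (a.obj W).obj (-(1 : ℤ))).presheaf.map (homOfLE (inf_le_left : V ⊓ U ≤ V)).op) := by
  haveI : CompactSpace X := QuasiCompact.compactSpace_of_compactSpace f
  haveI : IsLocallyNoetherian X := LocallyOfFiniteType.isLocallyNoetherian f
  have hd' : ∀ Z : Set X, Z ∈ irreducibleComponents X → topologicalKrullDim ↥Z = ((1 : ℕ) : WithBot ℕ∞) :=
    fun Z hZ => by rw [hd Z hZ, Nat.cast_one]
  let F := DCoh.HD (a.obj W).obj (-(1 : ℤ))
  have hF : Coh.IsCoh F := isCohD hωA f hf adj W hW _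
  have hFq : Coh.IsQCoh F := hF.1
  have key : ∀ (t : Γ(F, V)), F.presheaf.map (homOfLE (inf_le_left : V ⊓ U ≤ V)).op t = 0 → t = 0 := by
    intro t ht
    refine TopCat.Presheaf.section_ext ⟨F.presheaf, F.isSheaf⟩ V t 0 fun x hxV => ?_
    rw [map_zero]
    by_cases hxU : x ∈ U
    · show F.presheaf.germ V x hxV t = 0
      rw [← F.presheaf.germ_res_apply (homOfLE (inf_le_left : V ⊓ U ≤ V)) x ⟨hxV, hxU⟩ t, ht, map_zero]
    have hxc : IsClosed ({x} : Set X) := not_not.1 fun h => hxU (hU x h)
    obtain ⟨_, ⟨Wo, hWo, rfl⟩, hxW, hWV⟩ := X.isBasis_affineOpens.exists_subset_of_mem_open (show x ∈ (V : Set X) from hxV) V.2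
    have hWo' : IsAffineOpen Wo := hWo
    have hWV' : Wo ≤ V := hWV
    show F.presheaf.germ V x hxV t = 0
    rw [← F.presheaf.germ_res_apply (homOfLE hWV') x hxW t]
    set t' := F.presheaf.map (homOfLE hWV').op t with ht'
    letI := QCoh.stalkAlg (X := X) hxW
    haveI := QCoh.isLocalization_stalk' hWo' hxW
    haveI := QCoh.finite_stalk_of_isFT hFq hF.2 x
    refine eq_zero_of_depth (C := X.presheaf.stalk x) ?_ _ fun Q hQ hQm => ?_
    · obtain ⟨R, hR, j, hj, m, hm, ω, hjm, hω, hn, hst⟩ := exists_local_data hωA hnA f hf adj W hW x hxc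
      have h2 := hasSk_two hωA hnA f hf adj W hW 1 (topologicalKrullDim_le_of_components 1 hd') x
        (IsLocalRing.maximalIdeal (X.presheaf.stalk x))
      let C := X.presheaf.stalk x
      haveI : IsLocalization.AtPrime C (IsLocalRing.maximalIdeal C) :=
        IsLocalization.at_units fun r hr => IsLocalRing.notMem_maximalIdeal.1 hr
      let idf : F.presheaf.stalk x →ₗ[C] F.presheaf.stalk x := LinearMap.id
      haveI : IsLocalizedModule (IsLocalRing.maximalIdeal C).primeCompl idf :=
        isLocalizedModule_id _ _ C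
      have h2' : min (2 : WithBot ℕ∞) (Module.supportDim C (F.presheaf.stalk x)) ≤
          ((LocCoh.depth C (F.presheaf.stalk x) : ℕ∞) : WithBot ℕ∞) := by
        rw [Alg6.depth_localized_eq (IsLocalRing.maximalIdeal C) C idf,
          Alg6.supportDim_localized_eq (IsLocalRing.maximalIdeal C) C idf]
        exact_mod_cast h2
      haveI := nontrivial_stalk_of_components hωA hnA f hf adj W hW 1 hd' x
      have hsd : (1 : WithBot ℕ∞) ≤ Module.supportDim C (F.presheaf.stalk x) := by
        obtain ⟨Z, hZ, hsub⟩ := exists_mem_irreducibleComponents_subset_of_isIrreducible ({x} : Set X) isIrreducible_singleton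
        obtain ⟨η, hη⟩ := QuasiSober.sober hZ.1 (isClosed_of_mem_irreducibleComponents Z hZ)
        have hne : η ≠ x := fun h => by
          subst h
          have hZx : Z = {η} := hη.symm.trans hxc.closure_eq
          have h0 := hd' Z hZ
          subst hZx
          have h1 := topologicalKrullDim_zero_of_discreteTopology ({η} : Set X)
          rw [h0, Nat.cast_one] at h1
          exact absurd h1 (not_le.2 zero_lt_one)
        have hηx : η ⤳ x := hη.specializes (hsub rfl)
        obtain ⟨R', hR', j', hj', m', hm', ωR', ω', hjm', hω', hn', g3, g4⟩ := exists_closed_data hωA hnA f hf adj W hW x hxc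
        obtain ⟨e'⟩ := g3 (-(1 : ℤ))
        subst hjm'
        rw [(depth_supportDim_stalk j' _ _ e' m').2]
        refine le_trans ?_ (length_le_supportDim j' m' _ Set.univ (fun P _ => ?_) 1 ![j' m', η] (fun _ => trivial) ?_ ?_)
        · simp
        · rw [mem_support_localized_iff, Module.mem_support_iff]
          have h := nontrivial_stalk_of_components hωA hnA f hf adj W hW 1 hd'
            (j' (PrimeSpectrum.comap (algebraMap R' _) P))
          by_contra hs
          rw [not_nontrivial_iff_subsingleton] at hs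
          have hd'' := (depth_supportDim_stalk j' _ _ e' (PrimeSpectrum.comap (algebraMap R' _) P)).2
          rw [(Module.supportDim_eq_bot_iff_subsingleton _ _).2 hs, Module.supportDim_eq_bot_iff_subsingleton] at hd''
          exact not_nontrivial _ h
        · intro i
          fin_cases i
          · exact specializes_rfl
          · exact hηx
        · intro i
          fin_cases i
          exact ⟨hηx, hne⟩
      have h3 : (1 : WithBot ℕ∞) ≤ ((LocCoh.depth C (F.presheaf.stalk x) : ℕ∞) : WithBot ℕ∞) :=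
        le_trans (le_min (by norm_num) hsd) h2'
      exact WithBot.coe_le_coe.1 h3
    · obtain ⟨z, hz, hzq⟩ := QCoh.exists_point hWo' ⟨Q.comap (algebraMap Γ(X, Wo) (X.presheaf.stalk x)), inferInstance⟩
      have hne : Q.comap (algebraMap Γ(X, Wo) (X.presheaf.stalk x)) ≠ (hWo'.primeIdealOf ⟨x, hxW⟩).asIdeal := fun h =>
        hQm (IsLocalization.orderEmbedding (hWo'.primeIdealOf ⟨x, hxW⟩).asIdeal.primeCompl (X.presheaf.stalk x) |>.injective
          (h.trans (IsLocalization.AtPrime.comap_maximalIdeal (X.presheaf.stalk x) _).symm))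
      have hzx : z ≠ x := by
        rintro rfl
        exact hne (congrArg PrimeSpectrum.asIdeal hzq).symm
      have hle : (hWo'.primeIdealOf ⟨z, hz⟩).asIdeal ≤ (hWo'.primeIdealOf ⟨x, hxW⟩).asIdeal := by
        rw [hzq]
        exact (Ideal.comap_mono (IsLocalRing.le_maximalIdeal hQ.ne_top)).trans
          (IsLocalization.AtPrime.comap_maximalIdeal (X.presheaf.stalk x) _).le
      have hzs : z ⤳ x := by
        have h := Specializes.map ((PrimeSpectrum.le_iff_specializes _ _).1 hle) hWo'.fromSpec.continuous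
        rwa [hWo'.fromSpec_primeIdealOf, hWo'.fromSpec_primeIdealOf] at h
      have hzU : z ∈ U := hU z fun h => hzx (Set.mem_singleton_iff.1 (h.closure_eq ▸ hzs.mem_closure : x ∈ ({z} : Set X))).symm
      have hgz : F.presheaf.germ Wo z hz t' = 0 := by
        rw [ht', F.presheaf.germ_res_apply (homOfLE hWV') z hz t,
          ← F.presheaf.germ_res_apply (homOfLE (inf_le_left : V ⊓ U ≤ V)) z ⟨hWV' hz, hzU⟩ t, ht, map_zero]
      obtain ⟨r, hr, hr0⟩ := (QCoh.germ_eq_zero_iff hFq hWo' hz t').1 hgz
      refine ⟨algebraMap Γ(X, Wo) (X.presheaf.stalk x) r, fun h => ?_, ?_⟩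
      · exact (QCoh.mem_basicOpen_iff_notMem hWo' hz r).1 hr (by rw [hzq]; exact h)
      · exact (QCoh.germ_smul' F hxW r t').symm.trans (by rw [hr0, map_zero])
  intro t₁ t₂ h
  exact sub_eq_zero.1 (key (t₁ - t₂) (by rw [map_sub, h, sub_self]))

end Groth.Agent.DualLocal7
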