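import Groth.Agent.KFlatLib.Scheme.Tilde
import Groth.Agent.KFlatLib.Scheme.Pullback
import Groth.Agent.Alg6.LocLoc

/-!
# Stalks of a module on a chart as localizations, with depth and Serre's conditions
-/

set_option linter.style.haveILetI false
set_option backward.isDefEq.respectTransparency false
set_option backward.isDefEq.respectTransparency.types false

universe u

open CategoryTheory CategoryTheory.Limits AlgebraicGeometry

open scoped TensorProduct

namespace Groth.Agent.DualLocal7

/-- Serre's condition for a localized module. -/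
theorem hasSk_of_isLocalization {A : Type u} [CommRing A] (S : Submonoid A) (C : Type u) [CommRing C]
    [Algebra A C] [IsLocalization S C] {M N : Type u} [AddCommGroup M] [Module A M] [AddCommGroup N]
    [Module A N] [Module C N] [IsScalarTower A C N] (f : M →ₗ[A] N) [IsLocalizedModule S f] (k : ℕ)
    (h : ∀ (q : Ideal A) [q.IsPrime], Disjoint (S : Set A) (q : Set A) →
      min (k : WithBot ℕ∞) (Module.supportDim (Localization.AtPrime q) (LocalizedModule q.primeCompl M)) ≤
        ((LocCoh.depth (Localization.AtPrime q) (LocalizedModule q.primeCompl M) : ℕ∞) : WithBot ℕ∞)) :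
    LocCoh.HasSk k C N := by
  intro Q _
  let q := Q.comap (algebraMap A C)
  haveI : IsLocalization.AtPrime (Localization.AtPrime Q) q :=
    IsLocalization.isLocalization_isLocalization_atPrime_isLocalization S (Localization.AtPrime Q) Q
  let g : M →ₗ[A] LocalizedModule Q.primeCompl N :=
    ((LocalizedModule.mkLinearMap Q.primeCompl N).restrictScalars A).comp f
  haveI : IsLocalizedModule q.primeCompl g := by
    rw [isLocalizedModule_iff_isBaseChange _ (Localization.AtPrime Q)]
    exact (IsLocalizedModule.isBaseChange S C f).comp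
      (IsLocalizedModule.isBaseChange Q.primeCompl (Localization.AtPrime Q) (LocalizedModule.mkLinearMap Q.primeCompl N))
  rw [Alg6.depth_localized_eq q (Localization.AtPrime Q) g, Alg6.supportDim_localized_eq q (Localization.AtPrime Q) g]
  exact h q ((IsLocalization.disjoint_under_iff S C Q).mpr (Ideal.IsPrime.ne_top ‹_›))

variable {R : CommRingCat.{u}} {X : Scheme.{u}} (j : Spec R ⟶ X) [IsOpenImmersion j] (F : X.Modules)
  (N : ModuleCat.{u} R) (e : (Scheme.Modules.restrictFunctor j).obj F ≅ (tilde.functor R).obj N) (p : Spec R)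

include e

set_option maxHeartbeats 2000000 in
/-- The stalk at a point of a chart, as a localization. -/
theorem exists_isLocalizedModule :
    ∃ (φ : R →+* X.presheaf.stalk (j.base p)),
      letI := φ.toAlgebra
      letI : Module R (F.presheaf.stalk (j.base p)) := Module.compHom _ φ
      IsLocalization.AtPrime (X.presheaf.stalk (j.base p)) p.asIdeal ∧
        ∃ f : (N : Type u) →ₗ[R] F.presheaf.stalk (j.base p), IsLocalizedModule p.asIdeal.primeCompl f := by
  let C := X.presheaf.stalk (j.base p)
  let D := (Spec R).presheaf.stalk p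
  let t : R →+* D := KFlatLib.toStalkHom p
  let σ : C ≃+* D := (asIso (j.stalkMap p)).commRingCatIsoToRingEquiv
  let φ : R →+* C := (σ.symm : D →+* C).comp t
  refine ⟨φ, ?_⟩
  letI := φ.toAlgebra
  letI := t.toAlgebra
  letI : Algebra C D := (j.stalkMap p).hom.toAlgebra
  haveI hD : IsLocalization.AtPrime D p.asIdeal := by
    have e' : t.toAlgebra = StructureSheaf.stalkAlgebra R p := Algebra.algebra_ext _ _ fun r => rfl
    exact cast (congrArg (fun a => @IsLocalization R _ (p : PrimeSpectrum R).asIdeal.primeCompl D _ a) e'.symm)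
      (StructureSheaf.IsLocalization.to_stalk R p)
  let σA : D ≃ₐ[R] C := AlgEquiv.ofRingEquiv (f := σ.symm) fun r => rfl
  haveI hC : IsLocalization.AtPrime C p.asIdeal := IsLocalization.isLocalization_of_algEquiv _ σA
  let M := ((DerSch.stalkFunctor X (j.base p)).obj F : Type u)
  letI : Module R M := Module.compHom _ φ
  let T := D ⊗[R] (N : Type u)
  let β : T ≃ₗ[D] D ⊗[C] M :=
    (((KFlatLib.stalkTildeIso p).app N).symm ≪≫
      (DerSch.stalkFunctor (Spec R) p).mapIso (e.symm ≪≫ (Scheme.Modules.restrictFunctorIsoPullback j).app F) ≪≫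
      (KFlatLib.stalkPullbackIso j p).app F).toLinearEquiv
  let l : C ≃ₗ[C] D := LinearEquiv.ofBijective (Algebra.linearMap C D) σ.bijective
  let u : M ≃ₗ[C] D ⊗[C] M := (TensorProduct.lid C M).symm.trans (TensorProduct.congr l (LinearEquiv.refl C M))
  let ψ : T ≃ₗ[R] M :=
    { toFun := fun z => u.symm (β z)
      invFun := fun m => β.symm (u m)
      left_inv := fun z => by simp
      right_inv := fun m => by simp
      map_add' := fun a b => by simp
      map_smul' := fun r z => by
        have h1 : r • z = t r • z := (algebraMap_smul D r z).symm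
        have h2 : t r = algebraMap C D (φ r) := (σ.apply_symm_apply (t r)).symm
        rw [h1, map_smul, h2, algebraMap_smul, map_smul]
        rfl }
  let mk : (N : Type u) →ₗ[R] T := TensorProduct.mk R D (N : Type u) 1
  haveI : IsLocalizedModule p.asIdeal.primeCompl mk :=
    (isLocalizedModule_iff_isBaseChange p.asIdeal.primeCompl D mk).2 (TensorProduct.isBaseChange R (N : Type u) D)
  exact ⟨hC, ψ.toLinearMap.comp mk, IsLocalizedModule.of_linearEquiv p.asIdeal.primeCompl mk ψ⟩

/-- Depth and support dimension of a stalk on a chart. -/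
theorem depth_supportDim_stalk :
    LocCoh.depth (X.presheaf.stalk (j.base p)) (F.presheaf.stalk (j.base p)) =
        LocCoh.depth (Localization.AtPrime p.asIdeal) (LocalizedModule p.asIdeal.primeCompl N) ∧
      Module.supportDim (X.presheaf.stalk (j.base p)) (F.presheaf.stalk (j.base p)) =
        Module.supportDim (Localization.AtPrime p.asIdeal) (LocalizedModule p.asIdeal.primeCompl N) := by
  obtain ⟨φ, hφ⟩ := exists_isLocalizedModule j F N e p
  letI := φ.toAlgebra
  letI : Module R (F.presheaf.stalk (j.base p)) := Module.compHom _ φ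
  haveI : IsScalarTower R (X.presheaf.stalk (j.base p)) (F.presheaf.stalk (j.base p)) :=
    IsScalarTower.of_algebraMap_smul fun _ _ => rfl
  obtain ⟨h1, f, h2⟩ := hφ
  haveI := h1
  haveI := h2
  exact ⟨Alg6.depth_localized_eq p.asIdeal _ f, Alg6.supportDim_localized_eq p.asIdeal _ f⟩

/-- Serre's condition of a stalk on a chart. -/
theorem hasSk_stalk (k : ℕ)
    (h : ∀ (q : Ideal R) [q.IsPrime], q ≤ p.asIdeal →
      min (k : WithBot ℕ∞) (Module.supportDim (Localization.AtPrime q) (LocalizedModule q.primeCompl N)) ≤
        ((LocCoh.depth (Localization.AtPrime q) (LocalizedModule q.primeCompl N) : ℕ∞) : WithBot ℕ∞)) :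
    LocCoh.HasSk k (X.presheaf.stalk (j.base p)) (F.presheaf.stalk (j.base p)) := by
  obtain ⟨φ, hφ⟩ := exists_isLocalizedModule j F N e p
  letI := φ.toAlgebra
  letI : Module R (F.presheaf.stalk (j.base p)) := Module.compHom _ φ
  haveI : IsScalarTower R (X.presheaf.stalk (j.base p)) (F.presheaf.stalk (j.base p)) :=
    IsScalarTower.of_algebraMap_smul fun _ _ => rfl
  obtain ⟨h1, f, h2⟩ := hφ
  haveI := h1
  haveI := h2
  exact hasSk_of_isLocalization p.asIdeal.primeCompl _ f k fun q _ hq =>
    h q fun r hr => not_not.1 fun hr' => Set.disjoint_left.1 hq hr' hr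

end Groth.Agent.DualLocal7
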