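import Groth.Agent.DualLocal7.Closed
import Groth.Agent.DualLocal7.StalkLoc
import Groth.Agent.DualField7.Main
import Groth.Agent.S0369
import Groth.Agent.Synt29.SmoothProps

/-!
# The dualizing complex of a scheme proper over a Noetherian local ring
-/

set_option linter.style.haveILetI false
set_option backward.isDefEq.respectTransparency false
set_option backward.isDefEq.respectTransparency.types false
set_option maxHeartbeats 2000000

universe u

open CategoryTheory CategoryTheory.Limits AlgebraicGeometry Order Topology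

attribute [local instance] HasDerivedCategory.standard

namespace Groth.Agent.DualLocal7

open Groth.Agent.KFlatLib Groth.Agent.PerfGen7 Groth.Agent.DualField7

/-- In top degree the cohomology at a closed point vanishes unless the local ring has full dimension. -/
theorem dim_local {B : Type u} [CommRing B] [IsLocalRing B] [IsNoetherianRing B] {ω : Dual.D B}
    (hω : Dual.IsDualizing B ω) (hn : Dual.IsNormalized B ω) (n e : ℕ) (he : ringKrullDim B = e) (hen : e < n) :
    Subsingleton (Dual.HD B ω (-(n : ℤ))) := by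
  refine not_nontrivial_iff_subsingleton.1 fun h => ?_
  obtain ⟨eB⟩ := exists_homRingLEquiv ω (-(n : ℤ))
  haveI : Nontrivial (Dual.inD B B ⟶ ω⟦(-(n : ℤ))⟧) := eB.toEquiv.nontrivial
  obtain ⟨h1, -⟩ := (Groth.Agent.S0366.result B ω hω hn B e
    ((Module.supportDim_self_eq_ringKrullDim (R := B)).trans he) (-(n : ℤ))).1 inferInstance
  omega

variable [∀ (R : CommRingCat.{u}), PreservesFiniteLimits (tilde.functor R)]
  [∀ (U V : Scheme.{u}) (j : U ⟶ V) [IsOpenImmersion j], PreservesFiniteLimits (Scheme.Modules.restrictFunctor j)]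
  {A : Type u} [CommRing A] [IsLocalRing A] [IsNoetherianRing A]
  {ωA : Dual.D A} (hωA : Dual.IsDualizing A ωA) (hnA : Dual.IsNormalized A ωA)
  {X : Scheme.{u}}
  (f : X ⟶ Spec (CommRingCat.of A)) [IsProper f] [DCoh.HasRpush f] (hf : DCoh.RpushPreservesQCoh f)
  {a : DCoh.DQCoh (Spec (CommRingCat.of A)) ⥤ DCoh.DQCoh X} (adj : DCoh.RpushQ f hf ⊣ a)
  (W : DCoh.DQCoh (Spec (CommRingCat.of A)))
  (hW : Nonempty (W.obj ≅ (DCoh.tildeD (CommRingCat.of A)).obj ωA))

include hωA hW adj

/-- `a(W)` is a dualizing complex. -/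
theorem isDualizingSch : Dual2.IsDualizingSch X (a.obj W).obj := by
  obtain ⟨eW⟩ := hW
  exact ShriekDual7.isDualizingSch_rightAdjoint f hf adj W
    (DualCover7.isDualizingSch_of_cover W.obj PUnit.{u+1} (fun _ => A)
      (fun _ => 𝟙 (Spec (CommRingCat.of A))) (fun x => ⟨⟨⟩, x, rfl⟩)
      fun _ => ⟨ωA, hωA, ⟨rhoId _ ≪≫ eW⟩⟩)

/-- `a(W)` has coherent cohomology. -/
theorem isCohD : DCoh.IsCohD (a.obj W).obj := by
  obtain ⟨eW⟩ := hW
  obtain ⟨b, _, -, hb, -⟩ := exists_bounds_of_isDualizing hωA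
  haveI := hb
  haveI : ((DCoh.tildeD (CommRingCat.of A)).obj ωA).IsGE b :=
    (DerivedCategory.isGE_iff _ _).2 fun p hp => Functor.map_isZero (tilde.functor _)
      (DerivedCategory.isZero_of_isGE ωA b p hp) |>.of_iso
      ((mapDCHomologyIso (tilde.functor (CommRingCat.of A)) p).app _)
  haveI : W.obj.IsGE b := DerivedCategory.TStructure.t.isGE_of_iso eW.symm b
  refine ShriekCoh7.isCohD_rightAdjoint f hf adj W b fun i => ?_
  exact isCoh_of_iso ((DerivedCategory.homologyFunctor _ i).mapIso eW).symm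
    (RHomO7.DualizingModel.isCohD_tilde hωA.finite_cohomology i)

include hnA

/-- The local picture at a closed point. -/
theorem exists_closed_data (y : X) (hy : IsClosed ({y} : Set X)) :
    ∃ (R : CommRingCat.{u}) (_ : IsNoetherianRing R) (j : Spec R ⟶ X) (_ : IsOpenImmersion j)
      (m : Spec R) (_ : m.asIdeal.IsMaximal) (ωR : Dual.D R) (ω : Dual.D (Localization.AtPrime m.asIdeal)),
      j m = y ∧ Dual.IsDualizing (Localization.AtPrime m.asIdeal) ω ∧
        Dual.IsNormalized (Localization.AtPrime m.asIdeal) ω ∧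
      (∀ i : ℤ, Nonempty ((Scheme.Modules.restrictFunctor j).obj (DCoh.HD (a.obj W).obj i) ≅
        (tilde.functor R).obj (ModuleCat.of R (Dual.HD R ωR i)))) ∧
      ∀ i : ℤ, Nonempty (Dual.HD (Localization.AtPrime m.asIdeal) ω i ≃ₗ[Localization.AtPrime m.asIdeal]
        LocalizedModule m.asIdeal.primeCompl (Dual.HD R ωR i)) := by
  haveI : IsLocallyNoetherian X := LocallyOfFiniteType.isLocallyNoetherian f
  obtain ⟨eW⟩ := hW
  have hD := isDualizingSch hωA f hf adj W ⟨eW⟩
  obtain ⟨R, hR, j, hj, ωR₀, -, ⟨m, rfl⟩, -⟩ := DualSchCM.exists_chart_data hD y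
  obtain ⟨ωR, hωR, ⟨e⟩⟩ := hD R j
  haveI hm : m.asIdeal.IsMaximal := by
    rw [← PrimeSpectrum.isClosed_singleton_iff_isMaximal]
    have := hy.preimage j.continuous
    rwa [← Set.image_singleton, Set.preimage_image_eq _ j.isOpenEmbedding.injective] at this
  obtain ⟨n, hn, -, -, -⟩ := exists_extDegree hωR
  have hnm : n m = 0 := by
    by_contra hne
    obtain ⟨b, _, -, hb, -⟩ := exists_bounds_of_isDualizing hωA
    haveI := subsingleton_ext_closed hnA ⟨b, hb⟩ f hf adj W eW j e m.asIdeal hy (n m) hne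
    exact (not_nontrivial _) ((hn m (n m)).2 rfl)
  obtain ⟨ω, h1, h2, h3⟩ := LocalizeDual.exists_local hωR hn m
  refine ⟨R, hR, j, hj, m, hm, ωR, ω, rfl, h1, h2, fun i => ?_, fun i => ?_⟩
  · exact ⟨(restrictHDIso j (a.obj W).obj i).symm ≪≫ (DerivedCategory.homologyFunctor (Spec R).Modules i).mapIso e ≪≫
      (mapDCHomologyIso (tilde.functor R) i).app ωR⟩
  · let B := Localization.AtPrime m.asIdeal
    obtain ⟨c⟩ := h3 R i
    rw [hnm, zero_add] at c
    obtain ⟨eW⟩ := exists_homRingLEquiv ωR i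
    obtain ⟨eB⟩ := exists_homRingLEquiv ω i
    let c1 := (Linear.homCongr B
      ((DerivedCategory.singleFunctor (ModuleCat.{u} B) 0).mapIso (LC.selfLoc m.asIdeal.primeCompl).toModuleIso)
      (Iso.refl (ω⟦i⟧))).symm.trans c
    exact ⟨(eB.symm.trans c1).trans (IsLocalizedModule.mapEquiv m.asIdeal.primeCompl
      (LocalizedModule.mkLinearMap _ _) (LocalizedModule.mkLinearMap _ _) B eW)⟩

/-- Stalk supports near a closed point, on the local ring. -/
theorem exists_local_data (y : X) (hy : IsClosed ({y} : Set X)) :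
    ∃ (R : CommRingCat.{u}) (_ : IsNoetherianRing R) (j : Spec R ⟶ X) (_ : IsOpenImmersion j)
      (m : Spec R) (_ : m.asIdeal.IsMaximal) (ω : Dual.D (Localization.AtPrime m.asIdeal)),
      j m = y ∧ Dual.IsDualizing (Localization.AtPrime m.asIdeal) ω ∧
        Dual.IsNormalized (Localization.AtPrime m.asIdeal) ω ∧
      ∀ (P : PrimeSpectrum (Localization.AtPrime m.asIdeal)) (i : ℤ),
        Nontrivial ((DCoh.HD (a.obj W).obj i).presheaf.stalk
            (j (PrimeSpectrum.comap (algebraMap R (Localization.AtPrime m.asIdeal)) P))) ↔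
          P ∈ Module.support (Localization.AtPrime m.asIdeal) (Dual.HD (Localization.AtPrime m.asIdeal) ω i) := by
  obtain ⟨R, hR, j, hj, m, hm, ωR, ω, hjm, h1, h2, h3, h4⟩ := exists_closed_data hωA hnA f hf adj W hW y hy
  refine ⟨R, hR, j, hj, m, hm, ω, hjm, h1, h2, fun P i => ?_⟩
  obtain ⟨e⟩ := h3 i
  obtain ⟨c⟩ := h4 i
  rw [c.support_eq]
  refine Iff.trans ?_ (mem_support_localized_iff (R := R) (m : PrimeSpectrum R).asIdeal _ P).symm
  rw [Module.mem_support_iff]
  have h := (depth_supportDim_stalk j _ _ e (PrimeSpectrum.comap (algebraMap R (Localization.AtPrime m.asIdeal)) P)).2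
  rw [← not_iff_not, not_nontrivial_iff_subsingleton, not_nontrivial_iff_subsingleton,
    ← Module.supportDim_eq_bot_iff_subsingleton (X.presheaf.stalk
      (j (PrimeSpectrum.comap (algebraMap R (Localization.AtPrime m.asIdeal)) P))),
    ← Module.supportDim_eq_bot_iff_subsingleton
      (Localization.AtPrime (PrimeSpectrum.comap (algebraMap R (Localization.AtPrime m.asIdeal)) P).asIdeal)]
  exact iff_of_eq (congrArg (· = ⊥) h)

/-- Cohomology lives in `[-n, 0]`. -/
theorem isZero_hd (d : ℕ) (hd : topologicalKrullDim X ≤ d) (i : ℤ) (hi : i < -(d : ℤ) ∨ 0 < i) :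
    IsZero (DCoh.HD (a.obj W).obj i) := by
  haveI : CompactSpace X := QuasiCompact.compactSpace_of_compactSpace f
  refine isZero_of_stalk _ fun x => ?_
  by_contra hx
  have hx' : Nontrivial ((DCoh.HD (a.obj W).obj i).presheaf.stalk x) := by
    refine not_subsingleton_iff_nontrivial.1 fun h => hx ?_
    haveI : Subsingleton ((DerSch.stalkFunctor X x).obj (DCoh.HD (a.obj W).obj i) : Type u) := h
    exact ModuleCat.isZero_of_subsingleton _
  obtain ⟨y, hy, hyc⟩ := IsClosed.exists_closed_singleton (S := closure ({x} : Set X)) isClosed_closure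
    ⟨x, subset_closure rfl⟩
  obtain ⟨R, hR, j, hj, m, hm, ω, rfl, hω, hn, hst⟩ := exists_local_data hωA hnA f hf adj W hW y hyc
  have hxy : x ⤳ j m := specializes_iff_mem_closure.2 hy
  obtain ⟨p, rfl⟩ := hxy.mem_open j.isOpenEmbedding.isOpen_range ⟨m, rfl⟩
  have hpm : (p : PrimeSpectrum R).asIdeal ≤ (m : PrimeSpectrum R).asIdeal :=
    (PrimeSpectrum.le_iff_specializes p m).2 ((j.isOpenEmbedding.isInducing.specializes_iff).1 hxy)
  let mI := (m : PrimeSpectrum R).asIdeal
  let B := Localization.AtPrime mI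
  have hdj : Disjoint (mI.primeCompl : Set R) ((p : PrimeSpectrum R).asIdeal : Set R) :=
    Set.disjoint_left.2 fun r hr hr' => hr (hpm hr')
  let P : PrimeSpectrum B := ⟨_, IsLocalization.isPrime_of_isPrime_disjoint mI.primeCompl B _
    (p : PrimeSpectrum R).isPrime hdj⟩
  have hP : PrimeSpectrum.comap (algebraMap R B) P = p :=
    PrimeSpectrum.ext (IsLocalization.comap_map_of_isPrime_disjoint mI.primeCompl B (p : PrimeSpectrum R).isPrime hdj)
  have hsupp : P ∈ Module.support B (Dual.HD B ω i) := by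
    refine (hst P i).1 ?_
    rw [hP]
    exact hx'
  haveI : IsNoetherianRing B := IsLocalization.isNoetherianRing mI.primeCompl _ inferInstance
  obtain ⟨eB⟩ := exists_homRingLEquiv ω i
  haveI : Nontrivial (Dual.HD B ω i) := Module.nonempty_support_iff.1 ⟨P, hsupp⟩
  haveI : Nontrivial (Dual.inD B B ⟶ ω⟦i⟧) := eB.toEquiv.nontrivial
  obtain ⟨e, he⟩ := LocalizeDual.exists_supportDim_eq (B := B) B
  obtain ⟨h1, h2⟩ := (Groth.Agent.S0366.result B ω hω hn B e he i).1 inferInstance
  have hle : (e : WithBot ℕ∞) ≤ d := by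
    rw [← he, Module.supportDim_self_eq_ringKrullDim]
    let s : X.presheaf.stalk (j m) ≃+* B :=
      ((asIso (j.stalkMap m)).commRingCatIsoToRingEquiv).trans (StructureSheaf.stalkIso R m).toRingEquiv.symm
    rw [← ringKrullDim_eq_of_ringEquiv s]
    exact (CurveCohLib.ringKrullDim_stalk_le_topologicalKrullDim _).trans hd
  have : e ≤ d := by exact_mod_cast hle
  omega

/-- The support of `H^i` is closed. -/
theorem isClosed_support (i : ℤ) :
    IsClosed {x : X | Nontrivial ((DCoh.HD (a.obj W).obj i).presheaf.stalk x)} := by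
  haveI : IsLocallyNoetherian X := LocallyOfFiniteType.isLocallyNoetherian f
  have hc := isCohD hωA f hf adj W hW i
  have := QCoh.isClosed_support_of_isFT hc.1 hc.2
  simpa [CohB1.support, not_subsingleton_iff_nontrivial] using this

/-- The support of `H^i` has dimension at most `-i`. -/
theorem dim_support_le (i : ℤ) (n : ℕ) (hn : (n : ℤ) = -i) :
    topologicalKrullDim {x : X | Nontrivial ((DCoh.HD (a.obj W).obj i).presheaf.stalk x)} ≤ (n : WithBot ℕ∞) := by
  haveI : CompactSpace X := QuasiCompact.compactSpace_of_compactSpace f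
  refine topologicalKrullDim_le_of_closed (isClosed_support hωA hnA f hf adj W hW i) n
    fun y hy hyc l s h1 h2 h3 => ?_
  obtain ⟨R, hR, j, hj, m, hm, ω, rfl, hω, hnm, hst⟩ := exists_local_data hωA hnA f hf adj W hW y hyc
  let B := Localization.AtPrime (m : PrimeSpectrum R).asIdeal
  haveI : IsNoetherianRing B := IsLocalization.isNoetherianRing (m : PrimeSpectrum R).asIdeal.primeCompl _ inferInstance
  obtain ⟨e, he⟩ := LocalizeDual.exists_supportDim_eq (B := B) B
  have h4 := length_le_supportDim j m (Dual.HD B ω i) _ (fun P hP => (hst P i).1 hP) l s h1 h2 h3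
  obtain ⟨eB⟩ := exists_homRingLEquiv ω i
  have h5 : Module.supportDim B (Dual.HD B ω i) = Module.supportDim B (Dual.inD B B ⟶ ω⟦i⟧) := by
    unfold Module.supportDim
    rw [eB.support_eq]
  have h6 : (l : WithBot ℕ∞) ≤ ((-i).toNat : WithBot ℕ∞) :=
    h4.trans (h5.le.trans (Groth.Agent.S0366.result B ω hω hnm B e he i).2)
  have : l ≤ (-i).toNat := by exact_mod_cast h6
  omega

/-- Serre's condition for the top cohomology. -/
theorem hasSk_two (n : ℕ) (hdim : topologicalKrullDim X ≤ n) (x : X) :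
    LocCoh.HasSk 2 (X.presheaf.stalk x) ((DCoh.HD (a.obj W).obj (-(n : ℤ))).presheaf.stalk x) := by
  haveI : CompactSpace X := QuasiCompact.compactSpace_of_compactSpace f
  obtain ⟨y, hy, hyc⟩ := IsClosed.exists_closed_singleton (S := closure ({x} : Set X)) isClosed_closure
    ⟨x, subset_closure rfl⟩
  obtain ⟨R, hR, j, hj, m, hm, ωR, ω, rfl, hω, hn, h3, h4⟩ := exists_closed_data hωA hnA f hf adj W hW y hyc
  have hxy : x ⤳ j m := specializes_iff_mem_closure.2 hy
  obtain ⟨p, rfl⟩ := hxy.mem_open j.isOpenEmbedding.isOpen_range ⟨m, rfl⟩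
  have hpm : (p : PrimeSpectrum R).asIdeal ≤ (m : PrimeSpectrum R).asIdeal :=
    (PrimeSpectrum.le_iff_specializes p m).2 ((j.isOpenEmbedding.isInducing.specializes_iff).1 hxy)
  obtain ⟨e⟩ := h3 (-(n : ℤ))
  obtain ⟨c⟩ := h4 (-(n : ℤ))
  let mI := (m : PrimeSpectrum R).asIdeal
  let B := Localization.AtPrime mI
  haveI : IsNoetherianRing B := IsLocalization.isNoetherianRing mI.primeCompl _ inferInstance
  obtain ⟨d, hd'⟩ := LocalizeDual.exists_supportDim_eq (B := B) B
  rw [Module.supportDim_self_eq_ringKrullDim] at hd'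
  have hle : (d : WithBot ℕ∞) ≤ n := by
    rw [← hd']
    let s : X.presheaf.stalk (j m) ≃+* B :=
      ((asIso (j.stalkMap m)).commRingCatIsoToRingEquiv).trans (StructureSheaf.stalkIso R m).toRingEquiv.symm
    rw [← ringKrullDim_eq_of_ringEquiv s]
    exact (CurveCohLib.ringKrullDim_stalk_le_topologicalKrullDim _).trans hdim
  have hle' : d ≤ n := by exact_mod_cast hle
  have key : LocCoh.HasSk 2 B (LocalizedModule mI.primeCompl (Dual.HD R ωR (-(n : ℤ)))) := by
    rw [← Synt29.SmoothProps.hasSk_congr c]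
    rcases hle'.lt_or_eq with hlt | rfl
    · haveI := dim_local hω hn n d hd' hlt
      intro Q _
      haveI : Subsingleton (LocalizedModule Q.primeCompl (Dual.HD B ω (-(n : ℤ)))) :=
        LocalizedModule.subsingleton_iff.2 fun z => ⟨1, Submonoid.one_mem _, by rw [Subsingleton.elim z 0, smul_zero]⟩
      rw [(Module.supportDim_eq_bot_iff_subsingleton (Localization.AtPrime Q) _).2 inferInstance]
      simp
    · exact (Groth.Agent.S0369.result B ω hω hn d hd').2
  exact hasSk_stalk j _ _ e p 2 fun q _ hq => (Alg6.hasSk_localization_iff _ _ 2).1 key q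
    (Set.disjoint_left.2 fun r hr hr' => hr (hpm (hq hr')))

end Groth.Agent.DualLocal7
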